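import Cfsg.Agent.Lib.H16.G24M.ModTw

set_option autoImplicit false
set_option maxRecDepth 100000

/-! # The relations among the twist symbols (generated) -/

namespace Cfsg.Agent.Lib.H16.G24M.C1

theorem rel_alg_add {M : Type*} [AddCommGroup M] (a0 a1 a2 a3 a4 : M)
    (n0 : (2764800 : ℤ) • a0 = 0)
    (n1 : (2764800 : ℤ) • a1 = 0)
    (n2 : (2764800 : ℤ) • a2 = 0)
    (n3 : (2764800 : ℤ) • a3 = 0)
    (n4 : (2764800 : ℤ) • a4 = 0)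
    (h0 : (2764799 : ℤ) • a0 + ((0 : ℤ) • a1 + ((0 : ℤ) • a2 + ((0 : ℤ) • a3 + ((1 : ℤ) • a4 + 0)))) = 0)
    (h1 : (2764798 : ℤ) • a0 + ((2 : ℤ) • a1 + ((0 : ℤ) • a2 + ((0 : ℤ) • a3 + ((0 : ℤ) • a4 + 0)))) = 0)
    (h2 : (1 : ℤ) • a0 + ((1 : ℤ) • a1 + ((0 : ℤ) • a2 + ((0 : ℤ) • a3 + ((2764798 : ℤ) • a4 + 0)))) = 0)
    (h3 : (0 : ℤ) • a0 + ((0 : ℤ) • a1 + ((2 : ℤ) • a2 + ((0 : ℤ) • a3 + ((2764797 : ℤ) • a4 + 0)))) = 0)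
    (h4 : (0 : ℤ) • a0 + ((2764798 : ℤ) • a1 + ((2764797 : ℤ) • a2 + ((0 : ℤ) • a3 + ((0 : ℤ) • a4 + 0)))) = 0)
    (h5 : (2 : ℤ) • a0 + ((0 : ℤ) • a1 + ((2764798 : ℤ) • a2 + ((2764787 : ℤ) • a3 + ((1 : ℤ) • a4 + 0)))) = 0)
    : a0 = 0 ∧ a1 = 0 ∧ a2 = 0 ∧ a3 = 0 ∧ a4 = 0 := by
  refine ⟨?_, ?_, ?_, ?_, ?_⟩
  · linear_combination (norm := module) (850709 : ℤ) • n0 + (425354 : ℤ) • n1 + (425354 : ℤ) • n2 + (1488738 : ℤ) • n4 + (-850709 : ℤ) • h0 + (-850708 : ℤ) • h2 + (-638031 : ℤ) • h3 + (-425354 : ℤ) • h4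
  · linear_combination (norm := module) (850707 : ℤ) • n0 + (425354 : ℤ) • n1 + (425354 : ℤ) • n2 + (1488737 : ℤ) • n4 + (-850707 : ℤ) • h0 + (-850707 : ℤ) • h2 + (-638031 : ℤ) • h3 + (-425354 : ℤ) • h4
  · linear_combination (norm := module) (1276062 : ℤ) • n0 + (638031 : ℤ) • n1 + (638030 : ℤ) • n2 + (850708 : ℤ) • n4 + (-1276062 : ℤ) • h0 + (-1276062 : ℤ) • h2 + (425354 : ℤ) • h3 + (-638031 : ℤ) • h4
  · linear_combination (norm := module) (425354 : ℤ) • n0 + (212677 : ℤ) • n2 + (212676 : ℤ) • n3 + (212677 : ℤ) • n4 + (-425354 : ℤ) • h0 + (-212677 : ℤ) • h3 + (-212677 : ℤ) • h5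
  · linear_combination (norm := module) (850708 : ℤ) • n0 + (425354 : ℤ) • n1 + (425354 : ℤ) • n2 + (1488738 : ℤ) • n4 + (-850708 : ℤ) • h0 + (-850708 : ℤ) • h2 + (-638031 : ℤ) • h3 + (-425354 : ℤ) • h4

end Cfsg.Agent.Lib.H16.G24M.C1
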