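import Cfsg.Agent.Lib.H16.G24M.C1.StepsA
import Cfsg.Agent.Lib.H16.G24M.C1.StepsB
import Cfsg.Agent.Lib.H16.G24M.C1.Rows

set_option autoImplicit false
set_option maxRecDepth 100000

/-! # Running the monomial certificate (generated) -/

namespace Cfsg.Agent.Lib.H16.G24M.C1

open Cfsg.Agent.Lib.H17.CosetCert (BT WT)
open Cfsg.Agent.Lib.H17.MonoCert
open Cfsg.Agent.Lib.H16.G24M

variable {G Q A : Type*} [Group G] [MulAction G Q] [Group A] [MulAction A Q]
  [SMulCommClass G A Q] (tw : List ℕ → A) (γ : ℕ → G)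

theorem run (hfree : ∀ (α β : A) (q : Q), α • q = β • q → α = β)
    (htw : TwOK (nadd NN) (List.replicate 5 0) neq tw) (q0 : Q) (hw : WordsOK Ev tw γ q0 words 12) :
    Inv F Ev tw γ q0 words 19200 4800 27 := by
  have h0 := inv_zero F Ev tw γ q0 words 12 hw
  have h1 := checkSteps_sound (nadd NN) (List.replicate 5 0) neq F Ev 4 65536 tw γ hfree htw q0 words 12 hw steps0 0 1 12 1500 748 12 h0 chk0
  have h2 := checkSteps_sound (nadd NN) (List.replicate 5 0) neq F Ev 4 65536 tw γ hfree htw q0 words 12 hw steps1 1500 748 12 3000 1496 12 h1 chk1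
  have h3 := checkSteps_sound (nadd NN) (List.replicate 5 0) neq F Ev 4 65536 tw γ hfree htw q0 words 12 hw steps2 3000 1496 12 4500 2246 12 h2 chk2
  have h4 := checkSteps_sound (nadd NN) (List.replicate 5 0) neq F Ev 4 65536 tw γ hfree htw q0 words 12 hw steps3 4500 2246 12 6000 2995 12 h3 chk3
  have h5 := checkSteps_sound (nadd NN) (List.replicate 5 0) neq F Ev 4 65536 tw γ hfree htw q0 words 12 hw steps4 6000 2995 12 7500 3745 12 h4 chk4
  have h6 := checkSteps_sound (nadd NN) (List.replicate 5 0) neq F Ev 4 65536 tw γ hfree htw q0 words 12 hw steps5 7500 3745 12 9000 4493 12 h5 chk5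
  have h7 := checkSteps_sound (nadd NN) (List.replicate 5 0) neq F Ev 4 65536 tw γ hfree htw q0 words 12 hw steps6 9000 4493 12 10496 4800 16 h6 chk6
  have h8 := checkSteps_sound (nadd NN) (List.replicate 5 0) neq F Ev 4 65536 tw γ hfree htw q0 words 12 hw steps7 10496 4800 16 11991 4800 21 h7 chk7
  have h9 := checkSteps_sound (nadd NN) (List.replicate 5 0) neq F Ev 4 65536 tw γ hfree htw q0 words 12 hw steps8 11991 4800 21 13491 4800 21 h8 chk8
  have h10 := checkSteps_sound (nadd NN) (List.replicate 5 0) neq F Ev 4 65536 tw γ hfree htw q0 words 12 hw steps9 13491 4800 21 14991 4800 21 h9 chk9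
  have h11 := checkSteps_sound (nadd NN) (List.replicate 5 0) neq F Ev 4 65536 tw γ hfree htw q0 words 12 hw steps10 14991 4800 21 16491 4800 21 h10 chk10
  have h12 := checkSteps_sound (nadd NN) (List.replicate 5 0) neq F Ev 4 65536 tw γ hfree htw q0 words 12 hw steps11 16491 4800 21 17991 4800 21 h11 chk11
  have h13 := checkSteps_sound (nadd NN) (List.replicate 5 0) neq F Ev 4 65536 tw γ hfree htw q0 words 12 hw steps12 17991 4800 21 19200 4800 27 h12 chk12
  exact h13

end Cfsg.Agent.Lib.H16.G24M.C1
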